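import Groth.Agent.Lib.StUC16.Functors

/-!
# Functors for lifting problems of stacks
-/

universe v₉ u₉ v₈ u₈ v₇ u₇ v₆ u₆ v₅ u₅ v₄ u₄ v₃ u₃ v₂ u₂ v u

open CategoryTheory CategoryTheory.Functor Groth.Agent.FC16 Groth.Agent.StAlg Groth.Agent.StUC16

set_option linter.style.haveILetI false
set_option linter.unusedSectionVars false
set_option backward.isDefEq.respectTransparency false
set_option backward.isDefEq.respectTransparency.types false

namespace Groth.Agent.StSmooth16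

variable {C : Type u} [Category.{v} C] {𝒳 : BasedCategory.{v₂, u₂} C} {𝒮 : BasedCategory.{v₄, u₄} C}
  {𝒲 : BasedCategory.{v₅, u₅} C} {𝒱 : BasedCategory.{v₇, u₇} C} {𝒜 : BasedCategory.{v₈, u₈} C}
  {f : 𝒳 ⥤ᵇ 𝒮} {h : 𝒜 ⥤ᵇ 𝒱} {p : 𝒱 ⥤ᵇ 𝒮} {y : 𝒜 ⥤ᵇ 𝒮} (i : BasedFunctor.comp h p ≅ y)

variable (f) in
/-- the square of the change of order -/
noncomputable def orderSq :
    BasedFunctor.comp (BasedFunctor.comp (FibCat.fpSnd h (FibCat.fpFst p f)) (FibCat.fpSnd p f)) f ≅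
      BasedFunctor.comp (FibCat.fpFst h (FibCat.fpFst p f)) y :=
  (wlIso (FibCat.fpSnd h (FibCat.fpFst p f)) (FibCat.fpIso p f).symm :) ≪≫
    (wrIso (FibCat.fpIso h (FibCat.fpFst p f)).symm p :) ≪≫
    (wlIso (FibCat.fpFst h (FibCat.fpFst p f)) i :)

variable (f) in
/-- change of order -/
noncomputable def toOrder : FibCat.fp h (FibCat.fpFst p f) ⥤ᵇ FibCat.fp f y :=
  FibCat.fpLift (BasedFunctor.comp (FibCat.fpSnd h (FibCat.fpFst p f)) (FibCat.fpSnd p f))
    (FibCat.fpFst h (FibCat.fpFst p f)) (orderSq f i)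

variable (f) in
/-- second component of the change of order -/
noncomputable def toOrderSnd :
    BasedFunctor.comp (toOrder f i) (FibCat.fpSnd f y) ≅ FibCat.fpFst h (FibCat.fpFst p f) :=
  Iso.refl _

variable {x : 𝒲 ⥤ᵇ 𝒳} {a : 𝒲 ⥤ᵇ 𝒜} (α : BasedFunctor.comp x f ≅ BasedFunctor.comp a y)

/-- the inner functor of a lifting problem -/
noncomputable def preLift : 𝒲 ⥤ᵇ FibCat.fp p f :=
  FibCat.fpLift (BasedFunctor.comp a h) x ((wlIso a i :) ≪≫ α.symm)

/-- the lifting problem, read on a chart -/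
noncomputable def preLift' : 𝒲 ⥤ᵇ FibCat.fp h (FibCat.fpFst p f) :=
  FibCat.fpLift a (preLift i α) (Iso.refl (BasedFunctor.comp a h) :)

/-- reading back the lifting problem -/
noncomputable def preLiftIso :
    BasedFunctor.comp (preLift' i α) (toOrder f i) ≅ FibCat.fpLift x a α :=
  (liftIso (BasedFunctor.comp (preLift' i α) (toOrder f i)) x a α (Iso.refl _) (Iso.refl _) (fun w => by
    change f.map (𝟙 _) ≫ (appIso α w).hom =
      (((appIso α w).hom ≫ (appIso i (a.obj w)).inv) ≫ p.map (𝟙 _) ≫ (appIso i (a.obj w)).hom) ≫ y.map (𝟙 _)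
    simp
    erw [Category.id_comp, Iso.inv_hom_id, Category.comp_id]) :)

end Groth.Agent.StSmooth16
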