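import Groth.Agent.Lib.ChartLift16.Hens
import Groth.Agent.Lib.HensLift16.Space

/-!
# Lifting through smooth maps along thickenings of henselian local schemes
-/

universe u

open CategoryTheory CategoryTheory.Functor CategoryTheory.Limits AlgebraicGeometry Opposite

set_option linter.style.haveILetI false
set_option backward.isDefEq.respectTransparency false
set_option backward.isDefEq.respectTransparency.types false

namespace Groth.Agent.StSmooth16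

open Groth.Agent.FC16 Groth.Agent.StAlg

variable {S : Scheme.{u}}

/-- sections of smooth algebraic spaces extend along henselian thickenings of henselian local schemes -/
theorem exists_section_ext {W : AlgSp.Sp S} (hW : AlgSp.IsAlgSpace W) {R R₀ : Type u} [CommRing R] [CommRing R₀]
    [HenselianLocalRing R₀] (ρ : R →+* R₀) (hρ : Function.Surjective ρ) [HenselianRing R (RingHom.ker ρ)]
    (str : Spec (CommRingCat.of R) ⟶ S) (a : W ⟶ (AlgSp.yon S).obj (Over.mk str))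
    (ha : AlgSp.LocP @Smooth a)
    (w₀ : (AlgSp.yon S).obj (Over.mk ((Spec.map (CommRingCat.ofHom ρ)) ≫ str)) ⟶ W)
    (hw₀ : w₀ ≫ a = (AlgSp.yon S).map (Over.homMk (Spec.map (CommRingCat.ofHom ρ)) rfl :
      Over.mk ((Spec.map (CommRingCat.ofHom ρ)) ≫ str) ⟶ Over.mk str)) :
    ∃ g : (AlgSp.yon S).obj (Over.mk str) ⟶ W, g ≫ a = 𝟙 _ ∧
      (AlgSp.yon S).map (Over.homMk (Spec.map (CommRingCat.ofHom ρ)) rfl :
        Over.mk ((Spec.map (CommRingCat.ofHom ρ)) ≫ str) ⟶ Over.mk str) ≫ g = w₀ := by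
  let T₀ : Over S := Over.mk ((Spec.map (CommRingCat.ofHom ρ)) ≫ str)
  let iκ : Over.mk (Spec.map (CommRingCat.ofHom (IsLocalRing.residue R₀)) ≫ T₀.hom) ⟶ T₀ :=
    Over.homMk (Spec.map (CommRingCat.ofHom (IsLocalRing.residue R₀))) rfl
  obtain ⟨Z, φ, u₀, -, hφ, hu₀⟩ := SymPt15.exists_affine_lift hW (IsLocalRing.ResidueField R₀) _
    ((AlgSp.yon S).map iκ ≫ w₀)
  obtain ⟨P, p', q, sq⟩ := hφ.1 w₀
  obtain ⟨qZ, rfl⟩ := (AlgSp.yon S).map_surjective q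
  haveI : Etale p'.left := hφ.2 _ _ _ sq
  obtain ⟨l, hl⟩ := (AlgSp.yon S).map_surjective (sq.lift ((AlgSp.yon S).map u₀) ((AlgSp.yon S).map iκ) hu₀)
  have hl' : l ≫ p' = iκ := (AlgSp.yon S).map_injective (by rw [Functor.map_comp, hl, sq.lift_snd])
  haveI := SymPt15.henselianRing_ker_residue R₀
  haveI : Smooth p'.left := inferInstance
  obtain ⟨σ, hσ, -⟩ := SymPt15.exists_section_of_smooth (IsLocalRing.residue R₀)
    IsLocalRing.residue_surjective (P := P.left) p'.left l.left (congrArg CommaMorphism.left hl')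
  let σ' : T₀ ⟶ P := Over.homMk σ (by rw [← Over.w p', reassoc_of% hσ])
  have hσ' : σ' ≫ p' = 𝟙 _ := Over.OverMorphism.ext hσ
  let g₀ : T₀ ⟶ Z := σ' ≫ qZ
  have hg₀ : (AlgSp.yon S).map g₀ ≫ φ = w₀ := by
    rw [Functor.map_comp, Category.assoc, sq.w, ← Functor.map_comp_assoc, hσ']
    simp
  obtain ⟨v, hv⟩ := (AlgSp.yon S).map_surjective (φ ≫ a)
  haveI : Smooth v.left := ha φ (𝟙 _) v hφ (AlgSp.repWith_id _ _) (by rw [Category.comp_id, hv])
  have h₀ : g₀.left ≫ v.left = Spec.map (CommRingCat.ofHom ρ) := by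
    have h : g₀ ≫ v = Over.homMk (Spec.map (CommRingCat.ofHom ρ)) rfl :=
      (AlgSp.yon S).map_injective (by rw [Functor.map_comp, hv, ← Category.assoc, hg₀, hw₀])
    exact congrArg CommaMorphism.left h
  obtain ⟨g, h1, h2⟩ := SymPt15.exists_section_of_smooth ρ hρ (P := Z.left) v.left g₀.left h₀
  let q : Over.mk str ⟶ Z := Over.homMk g (by rw [← Over.w v, reassoc_of% h1])
  have hqv : q ≫ v = 𝟙 _ := Over.OverMorphism.ext h1
  refine ⟨(AlgSp.yon S).map q ≫ φ, by rw [Category.assoc, ← hv, ← Functor.map_comp, hqv, CategoryTheory.Functor.map_id], ?_⟩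
  rw [← Functor.map_comp_assoc, ← hg₀]
  exact congrArg (fun t => (AlgSp.yon S).map t ≫ φ) (Over.OverMorphism.ext h2)

open AlgSt in
/-- Points extend along thickenings through smooth maps from algebraic spaces. -/
theorem exists_space_ext {𝒵 : AlgSt.Cat S} (g𝒵 : FibCat.IsFibGrpd 𝒵.p) (Z : AlgSp.Space S)
    (f : AlgSt.ofSp Z.obj ⥤ᵇ 𝒵) (hf : AlgSt.RepByAlgSpWith (AlgSp.LocP @Smooth) f)
    {R R₀ : Type u} [CommRing R] [CommRing R₀] [HenselianLocalRing R₀] (ρ : R →+* R₀) (hρ : Function.Surjective ρ)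
    [HenselianRing R (RingHom.ker ρ)] (str : Spec (CommRingCat.of R) ⟶ S)
    (z : FibCat.overCat (Over.mk str) ⥤ᵇ 𝒵)
    (z₀ : (AlgSp.yon S).obj (Over.mk ((Spec.map (CommRingCat.ofHom ρ)) ≫ str)) ⟶ Z.obj)
    (w : Nonempty (BasedFunctor.comp (BasedFunctor.comp (AlgSt.ofOverCat (Over.mk ((Spec.map (CommRingCat.ofHom ρ)) ≫ str))) (AlgSt.ofSpMap z₀)) f ≅
      BasedFunctor.comp (AlgSt.overMap (Over.homMk (Spec.map (CommRingCat.ofHom ρ)) rfl : Over.mk ((Spec.map (CommRingCat.ofHom ρ)) ≫ str) ⟶ Over.mk str)) z)) :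
    ∃ z' : (AlgSp.yon S).obj (Over.mk str) ⟶ Z.obj,
      (AlgSp.yon S).map (Over.homMk (Spec.map (CommRingCat.ofHom ρ)) rfl : Over.mk ((Spec.map (CommRingCat.ofHom ρ)) ≫ str) ⟶ Over.mk str) ≫ z' = z₀ ∧
        Nonempty (BasedFunctor.comp (BasedFunctor.comp (AlgSt.ofOverCat (Over.mk str)) (AlgSt.ofSpMap z')) f ≅ z) := by
  obtain ⟨w⟩ := w
  let T : Over S := Over.mk str
  let T₀ : Over S := Over.mk ((Spec.map (CommRingCat.ofHom ρ)) ≫ str)
  let i : T₀ ⟶ T := Over.homMk (Spec.map (CommRingCat.ofHom ρ)) rfl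
  let zP : Stk.ofPsh ((AlgSp.yon S).obj T).obj ⥤ᵇ 𝒵 := BasedFunctor.comp (AlgSt.toOverCat T) z
  obtain ⟨G, a, e, he, ⟨ie⟩, -, hP⟩ := exists_rep_over (Stk.isFibGrpd_ofPsh _) g𝒵 (repByAlgSp1_of_with hf) zP
  obtain ⟨hG, hA, hsm⟩ := hP _ (preIso_of_pullback pbP_locP) hf (U := T) (𝟙 _) (F' := G) (𝟙 G) a
    (IsPullback.of_horiz_isIso ⟨by simp⟩)
  obtain ⟨e', he', ⟨η₁⟩, ⟨η₂⟩⟩ := exists_inverse he
  let W : AlgSp.Sp S := ⟨G, hG⟩
  let l : Stk.ofPsh ((AlgSp.yon S).obj T₀).obj ⥤ᵇ FibCat.fp zP f :=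
    FibCat.fpLift (Stk.ofPshMap ((AlgSp.yon S).map i).hom) (AlgSt.ofSpMap z₀)
      (wlIso (AlgSt.toOverCat T₀) w.symm ≪≫
        wrIso (wrIso (eqToIso (toOver_ofOver T₀)) (AlgSt.ofSpMap z₀)) f)
  let w₀ : (AlgSp.yon S).obj T₀ ⟶ W := ObjectProperty.homMk (mapOf (BasedFunctor.comp l e'))
  let b : W ⟶ Z.obj := ObjectProperty.homMk (mapOf (BasedFunctor.comp e (FibCat.fpSnd zP f)))
  have h₁ : w₀ ≫ (ObjectProperty.homMk a : W ⟶ (AlgSp.yon S).obj T) = (AlgSp.yon S).map i := by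
    apply ObjectProperty.hom_ext
    show mapOf (BasedFunctor.comp l e') ≫ a = _
    rw [← mapOf_ofPshMap a, ← mapOf_comp]
    exact (mapOf_congr (wlIso (BasedFunctor.comp l e') ie.symm ≪≫
      wrIso (wlIso l η₂) (FibCat.fpFst zP f))).trans (mapOf_ofPshMap _)
  have h₂ : w₀ ≫ b = z₀ := by
    apply ObjectProperty.hom_ext
    show mapOf (BasedFunctor.comp l e') ≫ mapOf (BasedFunctor.comp e (FibCat.fpSnd zP f)) = _
    rw [← mapOf_comp]
    exact (mapOf_congr (wrIso (wlIso l η₂) (FibCat.fpSnd zP f))).trans (mapOf_ofPshMap _)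
  obtain ⟨g, hg₁, hg₂⟩ := exists_section_ext hA ρ hρ str _ hsm w₀ h₁
  refine ⟨g ≫ b, by rw [← Category.assoc, hg₂, h₂], ⟨?_⟩⟩
  have E₁ : Stk.ofPshMap (g ≫ b).hom ≅ BasedFunctor.comp (BasedFunctor.comp (Stk.ofPshMap g.hom) e) (FibCat.fpSnd zP f) :=
    (isoMapOf (BasedFunctor.comp (BasedFunctor.comp (Stk.ofPshMap g.hom) e) (FibCat.fpSnd zP f)) ≪≫ eqToIso (by
      refine congrArg Stk.ofPshMap ((mapOf_comp (Stk.ofPshMap g.hom) (BasedFunctor.comp e (FibCat.fpSnd zP f))).trans ?_)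
      rw [mapOf_ofPshMap]; rfl)).symm
  have E₂ : BasedFunctor.comp (BasedFunctor.comp (Stk.ofPshMap g.hom) e) (FibCat.fpFst zP f) ≅
      BasedFunctor.id _ :=
    isoMapOf _ ≪≫ eqToIso (by
      rw [show BasedFunctor.comp (BasedFunctor.comp (Stk.ofPshMap g.hom) e) (FibCat.fpFst zP f) =
        BasedFunctor.comp (Stk.ofPshMap g.hom) (BasedFunctor.comp e (FibCat.fpFst zP f)) from rfl,
        mapOf_comp, mapOf_congr ie, mapOf_ofPshMap, mapOf_ofPshMap]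
      exact congrArg Stk.ofPshMap (congrArg (fun t => t.hom) hg₁)) ≪≫
      (isoMapOf _ ≪≫ eqToIso (congrArg Stk.ofPshMap mapOf_id)).symm
  exact wrIso (wlIso (AlgSt.ofOverCat T) E₁) f ≪≫
    wlIso (AlgSt.ofOverCat T) ((wlIso (BasedFunctor.comp (Stk.ofPshMap g.hom) e) (FibCat.fpIso zP f)).symm ≪≫
      wrIso E₂ zP) ≪≫ wrIso (eqToIso (ofOver_toOver T)) z

open AlgSt Groth.Agent.StAlg16 in
/-- Points extend along thickenings through smooth scheme charts. -/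
theorem exists_chart_ext {𝒵 : AlgSt.Cat S} (g𝒵 : FibCat.IsFibGrpd 𝒵.p) {Z : Over S}
    (p : FibCat.overCat Z ⥤ᵇ 𝒵) (hp : AlgSt.RepByAlgSpWith (AlgSp.LocP @Smooth) p)
    {R R₀ : Type u} [CommRing R] [CommRing R₀] [HenselianLocalRing R₀] (ρ : R →+* R₀) (hρ : Function.Surjective ρ)
    [HenselianRing R (RingHom.ker ρ)] (str : Spec (CommRingCat.of R) ⟶ S)
    (z : FibCat.overCat (Over.mk str) ⥤ᵇ 𝒵)
    (u₀ : Over.mk (Spec.map (CommRingCat.ofHom ρ) ≫ str) ⟶ Z)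
    (w : BasedFunctor.comp (AlgSt.overMap u₀) p ≅
      BasedFunctor.comp (AlgSt.overMap (Over.homMk (Spec.map (CommRingCat.ofHom ρ)) rfl :
        Over.mk (Spec.map (CommRingCat.ofHom ρ) ≫ str) ⟶ Over.mk str)) z) :
    ∃ g : Over.mk str ⟶ Z,
      (Over.homMk (Spec.map (CommRingCat.ofHom ρ)) rfl : Over.mk (Spec.map (CommRingCat.ofHom ρ) ≫ str) ⟶ Over.mk str) ≫ g = u₀ ∧
        Nonempty (BasedFunctor.comp (AlgSt.overMap g) p ≅ z) := by
  let f : AlgSt.ofSp ((AlgSp.yon S).obj Z) ⥤ᵇ 𝒵 := BasedFunctor.comp (AlgSt.toOverCat Z) p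
  have key : ∀ {T : Over S} (g : T ⟶ Z),
      Nonempty (BasedFunctor.comp (AlgSt.overMap g) p ≅
        BasedFunctor.comp (BasedFunctor.comp (AlgSt.ofOverCat T) (AlgSt.ofSpMap ((AlgSp.yon S).map g))) f) :=
    fun {T} g => ⟨wlIso (AlgSt.overMap g) (wrIso (eqToIso (ofOver_toOver Z).symm) p) ≪≫
      wrIso (ofOverMapIso g) f⟩
  obtain ⟨k₀⟩ := key u₀
  obtain ⟨z', hz', ⟨j⟩⟩ := exists_space_ext g𝒵 ⟨_, AlgSp.IsAlgSpace.yon_obj Z⟩ f
    (with_toOverCat_comp hp) ρ hρ str z ((AlgSp.yon S).map u₀) ⟨k₀.symm ≪≫ w⟩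
  obtain ⟨g, rfl⟩ := (AlgSp.yon S).map_surjective z'
  obtain ⟨k⟩ := key g
  exact ⟨g, (AlgSp.yon S).map_injective (by rw [Functor.map_comp]; exact hz'), ⟨k ≪≫ j⟩⟩

end Groth.Agent.StSmooth16
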