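import Groth.Agent.Lib.ArtinCrit5.Basic

/-!
# Smoothness from lifting of small thickenings of Artinian local schemes
-/

universe u

open IsLocalRing CategoryTheory CategoryTheory.Limits AlgebraicGeometry

set_option linter.style.haveILetI false
set_option backward.isDefEq.respectTransparency false
set_option backward.isDefEq.respectTransparency.types false

namespace Groth.Agent.StSmooth16

variable {X Y : Scheme.{u}} (f : X ⟶ Y)

/-- lifting of the thickenings with simple kernel -/
def SimpleLifts : Prop :=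
  ∀ (A A₀ : Type u) [CommRing A] [IsArtinianRing A] [IsLocalRing A] [CommRing A₀] [IsLocalRing A₀]
    (φ : A →+* A₀), Function.Surjective φ → IsSimpleModule A (RingHom.ker φ) →
    ∀ (a : Spec (CommRingCat.of A) ⟶ Y) (u : Spec (CommRingCat.of A₀) ⟶ X),
      u ≫ f = Spec.map (CommRingCat.ofHom φ) ≫ a →
      ∃ g : Spec (CommRingCat.of A) ⟶ X, g ≫ f = a ∧ Spec.map (CommRingCat.ofHom φ) ≫ g = u

variable {f}

/-- lifting along all thickenings of Artinian local rings follows from the simple ones -/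
theorem exists_lift_of_simpleLifts (H : SimpleLifts f) (A : Type u) [CommRing A] [IsArtinianRing A] [IsLocalRing A]
    (a : Spec (CommRingCat.of A) ⟶ Y) (I : Ideal A) :
    I ≠ ⊤ → ∀ u : Spec (CommRingCat.of (A ⧸ I)) ⟶ X,
      u ≫ f = Spec.map (CommRingCat.ofHom (Ideal.Quotient.mk I)) ≫ a →
      ∃ g : Spec (CommRingCat.of A) ⟶ X, g ≫ f = a ∧ Spec.map (CommRingCat.ofHom (Ideal.Quotient.mk I)) ≫ g = u := by
  induction I using IsWellFounded.induction (r := ((· < ·) : Ideal A → Ideal A → Prop)) with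
  | ind I ih =>
    intro hI u hu
    by_cases h0 : I = ⊥
    · subst h0
      let e := RingEquiv.quotientBot A
      have h1 : CommRingCat.ofHom (Ideal.Quotient.mk (⊥ : Ideal A)) ≫ CommRingCat.ofHom e.toRingHom = 𝟙 _ := by
        ext x; exact RingEquiv.quotientBot_mk x
      have h2 : CommRingCat.ofHom e.toRingHom ≫ CommRingCat.ofHom (Ideal.Quotient.mk (⊥ : Ideal A)) = 𝟙 _ := by
        ext x
        rfl
      refine ⟨Spec.map (CommRingCat.ofHom e.toRingHom) ≫ u, ?_, ?_⟩
      · rw [Category.assoc, hu, ← Category.assoc, ← Spec.map_comp, h1, Spec.map_id, Category.id_comp]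
      · rw [← Category.assoc, ← Spec.map_comp, h2, Spec.map_id, Category.id_comp]
    obtain ⟨J, hJI, hJ⟩ := wellFounded_gt.has_min {J : Ideal A | J < I} ⟨⊥, bot_lt_iff_ne_bot.2 h0⟩
    haveI : Nontrivial (A ⧸ J) := Ideal.Quotient.nontrivial_iff.2 (fun h => hI (top_le_iff.1 (h ▸ hJI.le)))
    haveI : Nontrivial (A ⧸ I) := Ideal.Quotient.nontrivial_iff.2 hI
    haveI : IsLocalRing (A ⧸ J) := IsLocalRing.of_surjective' _ Ideal.Quotient.mk_surjective
    haveI : IsLocalRing (A ⧸ I) := IsLocalRing.of_surjective' _ Ideal.Quotient.mk_surjective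
    haveI : IsArtinianRing (A ⧸ J) := (Ideal.Quotient.mk_surjective (I := J)).isArtinianRing
    let φ : A ⧸ J →+* A ⧸ I := Ideal.Quotient.factor hJI.le
    have hφ : Function.Surjective φ := Ideal.Quotient.factor_surjective hJI.le
    have hker : IsSimpleModule (A ⧸ J) (RingHom.ker φ) := by
      rw [isSimpleModule_iff_isAtom]
      constructor
      · intro h
        refine (lt_irrefl J) (hJI.trans_le fun x hx => ?_)
        have : Ideal.Quotient.mk J x ∈ RingHom.ker φ := by
          rw [RingHom.mem_ker]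
          exact (Ideal.Quotient.factor_mk hJI.le x).trans (Ideal.Quotient.eq_zero_iff_mem.2 hx)
        rw [h] at this
        exact Ideal.Quotient.eq_zero_iff_mem.1 this
      · intro K hK
        have hle : J ≤ Ideal.comap (Ideal.Quotient.mk J) (K : Ideal (A ⧸ J)) := fun x hx => by
          rw [Ideal.mem_comap, Ideal.Quotient.eq_zero_iff_mem.2 hx]; exact K.zero_mem
        have hlt : Ideal.comap (Ideal.Quotient.mk J) (K : Ideal (A ⧸ J)) < I := by
          refine lt_of_le_of_ne (fun x hx => ?_) fun he => hK.ne (le_antisymm hK.le fun x hx => ?_)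
          · have := hK.le hx
            rw [RingHom.mem_ker] at this
            exact Ideal.Quotient.eq_zero_iff_mem.1 ((Ideal.Quotient.factor_mk hJI.le x).symm.trans this)
          · obtain ⟨y, rfl⟩ := Ideal.Quotient.mk_surjective x
            rw [RingHom.mem_ker] at hx
            have hy : y ∈ I := Ideal.Quotient.eq_zero_iff_mem.1 ((Ideal.Quotient.factor_mk hJI.le y).symm.trans hx)
            rw [← he] at hy
            exact hy
        have heq : Ideal.comap (Ideal.Quotient.mk J) (K : Ideal (A ⧸ J)) = J := by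
          by_contra hne
          exact hJ _ hlt (lt_of_le_of_ne hle (Ne.symm hne))
        rw [eq_bot_iff]
        intro x hx
        obtain ⟨y, rfl⟩ := Ideal.Quotient.mk_surjective x
        have : y ∈ Ideal.comap (Ideal.Quotient.mk J) (K : Ideal (A ⧸ J)) := hx
        rw [heq] at this
        exact Ideal.Quotient.eq_zero_iff_mem.2 this
    have hcomp : CommRingCat.ofHom (Ideal.Quotient.mk J) ≫ CommRingCat.ofHom φ =
        CommRingCat.ofHom (Ideal.Quotient.mk I) := by
      ext x; exact Ideal.Quotient.factor_mk hJI.le x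
    obtain ⟨g₁, hg₁, hg₁u⟩ := H (A ⧸ J) (A ⧸ I) φ hφ hker
      (Spec.map (CommRingCat.ofHom (Ideal.Quotient.mk J)) ≫ a) u
      (by rw [hu, ← Category.assoc, ← Spec.map_comp, hcomp])
    obtain ⟨g, hg, hgg⟩ := ih J hJI (fun h => hI (top_le_iff.1 (h ▸ hJI.le))) g₁ hg₁
    exact ⟨g, hg, by rw [← hcomp, Spec.map_comp, Category.assoc, hgg, hg₁u]⟩

/-- local homomorphisms out of a stalk are determined by their morphisms of spectra -/
theorem eq_of_comp_fromSpecStalk {R : CommRingCat.{u}} [IsLocalRing R] {Z : Scheme.{u}} {z : Z}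
    (α β : Z.presheaf.stalk z ⟶ R) (hα : IsLocalHom α.hom) (hβ : IsLocalHom β.hom)
    (h : Spec.map α ≫ Z.fromSpecStalk z = Spec.map β ≫ Z.fromSpecStalk z) : α = β := by
  have h' := (AlgebraicGeometry.SpecToEquivOfLocalRing Z R).symm.injective
    (show (AlgebraicGeometry.SpecToEquivOfLocalRing Z R).symm ⟨z, α, hα⟩ =
      (AlgebraicGeometry.SpecToEquivOfLocalRing Z R).symm ⟨z, β, hβ⟩ from h)
  exact congrArg Subtype.val (eq_of_heq (Sigma.mk.inj h').2)

/-- smoothness from lifting -/
theorem smooth_of_simpleLifts [LocallyOfFiniteType f] [IsLocallyNoetherian Y] (H : SimpleLifts f) : Smooth f := by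
  haveI : LocallyOfFinitePresentation f := inferInstance
  rw [← Scheme.Hom.smoothLocus_eq_top_iff, eq_top_iff]
  rintro x -
  refine ArtinCrit5.mem_smoothLocus_of_lifts f x ?_
  intro A' _ _ _ h _ I hI hIm g₀ hg₀ hloc _
  haveI : Nontrivial (A' ⧸ I) := Ideal.Quotient.nontrivial_iff.2 hI
  haveI : IsLocalRing (A' ⧸ I) := IsLocalRing.of_surjective' _ Ideal.Quotient.mk_surjective
  haveI : IsLocalHom (Ideal.Quotient.mk I) := IsLocalHom.of_surjective _ Ideal.Quotient.mk_surjective
  haveI : IsLocalHom g₀ := ⟨fun b hb => by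
    by_contra hb'
    have h1 := hloc b ((IsLocalRing.mem_maximalIdeal b).2 hb')
    have h2 : (maximalIdeal A').map (Ideal.Quotient.mk I) ≤ maximalIdeal (A' ⧸ I) :=
      Ideal.map_le_iff_le_comap.2 ((IsLocalRing.maximalIdeal_comap (Ideal.Quotient.mk I)).ge)
    exact (IsLocalRing.mem_maximalIdeal _).1 (h2 h1) hb⟩
  let u : Spec (CommRingCat.of (A' ⧸ I)) ⟶ X := Spec.map (CommRingCat.ofHom g₀) ≫ X.fromSpecStalk x
  let a : Spec (CommRingCat.of A') ⟶ Y := Spec.map (CommRingCat.ofHom h) ≫ Y.fromSpecStalk (f x)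
  have hu : u ≫ f = Spec.map (CommRingCat.ofHom (Ideal.Quotient.mk I)) ≫ a := by
    have : f.stalkMap x ≫ CommRingCat.ofHom g₀ = CommRingCat.ofHom h ≫ CommRingCat.ofHom (Ideal.Quotient.mk I) := by
      ext1; exact hg₀
    rw [Category.assoc, ← Scheme.SpecMap_stalkMap_fromSpecStalk, ← Category.assoc, ← Spec.map_comp, this,
      Spec.map_comp, Category.assoc]
  obtain ⟨G, hGf, hGu⟩ := exists_lift_of_simpleLifts H A' a I hI u hu
  have hx : G (closedPoint A') = x := by
    have h1 := congrArg (fun q : Spec (CommRingCat.of (A' ⧸ I)) ⟶ X => q (closedPoint (A' ⧸ I))) hGu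
    simp only [Scheme.Hom.comp_apply] at h1
    rw [show Spec.map (CommRingCat.ofHom (Ideal.Quotient.mk I)) (closedPoint (A' ⧸ I)) = closedPoint A' from
      (IsLocalRing.isLocalHom_iff_comap_closedPoint (Ideal.Quotient.mk I)).1 inferInstance] at h1
    rw [h1]
    show X.fromSpecStalk x (Spec.map (CommRingCat.ofHom g₀) (closedPoint (A' ⧸ I))) = x
    rw [show Spec.map (CommRingCat.ofHom g₀) (closedPoint (A' ⧸ I)) = closedPoint (X.presheaf.stalk x) from
      (IsLocalRing.isLocalHom_iff_comap_closedPoint g₀).1 inferInstance]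
    exact Scheme.fromSpecStalk_closedPoint
  subst hx
  let γ := Scheme.stalkClosedPointTo G
  have hG : Spec.map γ ≫ X.fromSpecStalk (G (closedPoint A')) = G := Scheme.Spec_stalkClosedPointTo_fromSpecStalk G
  haveI : IsLocalHom γ.hom := inferInstanceAs (IsLocalHom (Scheme.stalkClosedPointTo G).hom)
  refine ⟨γ.hom, ?_, ?_⟩
  · have e := eq_of_comp_fromSpecStalk (f.stalkMap _ ≫ γ) (CommRingCat.ofHom h)
      (by rw [CommRingCat.hom_comp]; infer_instance) ‹_› (by
      rw [Spec.map_comp, Category.assoc, Scheme.SpecMap_stalkMap_fromSpecStalk, ← Category.assoc, hG, hGf])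
    exact congrArg CommRingCat.Hom.hom e
  · have e := eq_of_comp_fromSpecStalk (γ ≫ CommRingCat.ofHom (Ideal.Quotient.mk I)) (CommRingCat.ofHom g₀)
      (by rw [CommRingCat.hom_comp, CommRingCat.hom_ofHom]; infer_instance) ‹_› (by rw [Spec.map_comp, Category.assoc, hG, hGu])
    exact congrArg CommRingCat.Hom.hom e

end Groth.Agent.StSmooth16
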