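import Groth.Agent.Lib.StSmooth16.Lift
import Groth.Agent.Lib.StSmooth16.Scheme
import Groth.Agent.Lib.StSmooth16.Functors
import Groth.Agent.Lib.StAlg16.LocPInst
import Groth.Agent.Lib.StAlg16.LocQApps
import Groth.Agent.Lib.Hens.Local

/-!
# Smoothness of morphisms of stacks and infinitesimal lifting
-/

universe u

open CategoryTheory CategoryTheory.Functor CategoryTheory.Limits AlgebraicGeometry Opposite

set_option linter.style.haveILetI false
set_option linter.unusedSectionVars false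
set_option backward.isDefEq.respectTransparency false
set_option backward.isDefEq.respectTransparency.types false

namespace Groth.Agent.StSmooth16

open Groth.Agent.FC16 hiding overMap
open Groth.Agent.StAlg Groth.Agent.StAlg16 Groth.Agent.StUC16 AlgSt

variable {S : Scheme.{u}} {𝒳 𝒴 : AlgSt.Cat S}

theorem henselianRing_ker {A A₀ : Type u} [CommRing A] [IsArtinianRing A] [IsLocalRing A] [CommRing A₀] [Nontrivial A₀]
    (φ : A →+* A₀) : HenselianRing A (RingHom.ker φ) :=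
  Hens.henselianRing_of_nilpotent fun _ hx => (Ring.KrullDimLE.isNilpotent_iff_mem_maximalIdeal).2
    (IsLocalRing.le_maximalIdeal (RingHom.ker_ne_top φ) hx)

theorem henselianLocalRing_of_artinian (A : Type u) [CommRing A] [IsArtinianRing A] [IsLocalRing A] :
    HenselianLocalRing A :=
  Hens.henselianLocalRing_iff.2 (Hens.henselianRing_of_nilpotent fun _ hx =>
    (Ring.KrullDimLE.isNilpotent_iff_mem_maximalIdeal).2 hx)

/-- lifting of small thickenings for a morphism of stacks -/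
def InfLift (f : 𝒳 ⥤ᵇ 𝒴) : Prop :=
  ∀ (A A₀ : Type u) [CommRing A] [IsArtinianRing A] [IsLocalRing A] [CommRing A₀] [IsLocalRing A₀]
    (φ : A →+* A₀) (_ : Function.Surjective φ) (_ : IsSimpleModule A (RingHom.ker φ))
    (sA : Spec (CommRingCat.of A) ⟶ S)
    (x : FibCat.overCat (Over.mk (Spec.map (CommRingCat.ofHom φ) ≫ sA)) ⥤ᵇ 𝒳)
    (y : FibCat.overCat (Over.mk sA) ⥤ᵇ 𝒴)
    (α : BasedFunctor.comp x f ≅
      BasedFunctor.comp (AlgSt.overMap (Over.homMk (Spec.map (CommRingCat.ofHom φ)) rfl :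
        Over.mk (Spec.map (CommRingCat.ofHom φ) ≫ sA) ⟶ Over.mk sA)) y),
    ∃ (c : FibCat.overCat (Over.mk sA) ⥤ᵇ FibCat.fp f y),
      Nonempty (BasedFunctor.comp c (FibCat.fpSnd f y) ≅ AlgSt.overMap (𝟙 (Over.mk sA))) ∧
      Nonempty (BasedFunctor.comp (AlgSt.overMap (Over.homMk (Spec.map (CommRingCat.ofHom φ)) rfl :
          Over.mk (Spec.map (CommRingCat.ofHom φ) ≫ sA) ⟶ Over.mk sA)) c ≅
        FibCat.fpLift x (AlgSt.overMap (Over.homMk (Spec.map (CommRingCat.ofHom φ)) rfl :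
          Over.mk (Spec.map (CommRingCat.ofHom φ) ≫ sA) ⟶ Over.mk sA)) α)

theorem locQ_smooth_of_infLift (h𝒳 : AlgSt.IsAlgStack Scheme.etalePrecoverage 𝒳)
    (h𝒴 : AlgSt.IsAlgStack Scheme.etalePrecoverage 𝒴)
    (hn : AlgSt.SmoothLocally (fun T => IsLocallyNoetherian T) 𝒴)
    {f : 𝒳 ⥤ᵇ 𝒴} (hft : AlgSt.LocQ (AlgSp.LocP @LocallyOfFiniteType) f) (H : InfLift f) :
    AlgSt.LocQ (AlgSp.LocP @Smooth) f := by
  have gX := h𝒳.isStack.1
  have gY := h𝒴.isStack.1
  obtain ⟨V, y, hy, hys⟩ := h𝒴.atlas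
  haveI : IsLocallyNoetherian V.left := hn V y hy
  have hP := StAlg.isAlgStack_fp h𝒴.isStack h𝒴.diag
    (ChartLift16.isAlgStack_etale_of_fppf (isAlgStack_overCat V)) h𝒳 y f
  have gP := hP.isStack.1
  obtain ⟨U, c, hc, hcs⟩ := hP.atlas
  obtain ⟨b, ⟨j⟩⟩ := exists_overMap_iso (BasedFunctor.comp c (FibCat.fpFst y f))
  haveI : LocallyOfFiniteType b.left :=
    (locP_yon_iff b).1 (of_locQ isSmoothLocalST_lft gX gY hft hy j hc)
  suffices Smooth b.left from locQ_of_good gX gY hy hys j hc hcs ((locP_yon_iff' b).2 this)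
  refine smooth_of_simpleLifts fun A A₀ _ _ _ _ _ φ hφ hker a u hu => ?_
  haveI : IsArtinianRing A₀ := hφ.isArtinianRing
  haveI := henselianLocalRing_of_artinian A₀
  haveI := henselianRing_ker φ
  let sA := a ≫ V.hom
  let e : Over.mk (Spec.map (CommRingCat.ofHom φ) ≫ sA) ⟶ Over.mk sA :=
    Over.homMk (Spec.map (CommRingCat.ofHom φ)) rfl
  let a' : Over.mk sA ⟶ V := Over.homMk a rfl
  let u' : Over.mk (Spec.map (CommRingCat.ofHom φ) ≫ sA) ⟶ U := Over.homMk u (by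
    show u ≫ U.hom = _ ≫ a ≫ V.hom
    rw [← Over.w b, ← Category.assoc, hu, Category.assoc])
  have hu' : u' ≫ b = e ≫ a' := Over.OverMorphism.ext hu
  let w := BasedFunctor.comp (AlgSt.overMap u') c
  let iw : BasedFunctor.comp w (FibCat.fpFst y f) ≅ BasedFunctor.comp (AlgSt.overMap e) (AlgSt.overMap a') :=
    wlIso (AlgSt.overMap u') j ≪≫ overMapComp u' b ≪≫ eqToIso (congrArg AlgSt.overMap hu') ≪≫
      (overMapComp e a').symm
  obtain ⟨c', ⟨i₁⟩, ⟨i₂⟩⟩ := H A A₀ φ hφ hker sA (BasedFunctor.comp w (FibCat.fpSnd y f))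
    (BasedFunctor.comp (AlgSt.overMap a') y) (swapIso w (AlgSt.overMap e) iw)
  let z := BasedFunctor.comp c' (swapMap (AlgSt.overMap a') y f)
  obtain ⟨g, hg, ⟨ig⟩⟩ := exists_chart_ext gP c hc φ hφ sA z u'
    (rebuildIso w (AlgSt.overMap e) iw ≪≫ (wrIso i₂ (swapMap (AlgSt.overMap a') y f)).symm)
  have hgb : g ≫ b = 𝟙 _ ≫ a' := eq_of_overMap_iso
    ((overMapComp g b).symm ≪≫ wlIso (AlgSt.overMap g) j.symm ≪≫ wrIso ig (FibCat.fpFst y f) ≪≫
      wlIso c' (swapMapFst (AlgSt.overMap a') y f) ≪≫ wrIso i₁ (AlgSt.overMap a') ≪≫ overMapComp (𝟙 _) a')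
  exact ⟨g.left, (congrArg CommaMorphism.left hgb).trans (Category.id_comp a), congrArg CommaMorphism.left hg⟩

theorem infLift_of_locQ_smooth (h𝒳 : AlgSt.IsAlgStack Scheme.etalePrecoverage 𝒳)
    (h𝒴 : AlgSt.IsAlgStack Scheme.etalePrecoverage 𝒴)
    {f : 𝒳 ⥤ᵇ 𝒴} (hsm : AlgSt.LocQ (AlgSp.LocP @Smooth) f) : InfLift f := by
  intro A A₀ _ _ _ _ _ φ hφ _ sA x y α
  haveI : IsArtinianRing A₀ := hφ.isArtinianRing
  haveI := henselianLocalRing_of_artinian A
  haveI := henselianLocalRing_of_artinian A₀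
  haveI := henselianRing_ker φ
  have gX := h𝒳.isStack.1
  have gY := h𝒴.isStack.1
  let e : Over.mk (Spec.map (CommRingCat.ofHom φ) ≫ sA) ⟶ Over.mk sA :=
    Over.homMk (Spec.map (CommRingCat.ofHom φ)) rfl
  obtain ⟨Z, -, p, gy, hp, ⟨iy⟩⟩ := ChartLift16.exists_affine_chart_lift_of_henselian h𝒴 A sA y
  have hP := StAlg.isAlgStack_fp h𝒴.isStack h𝒴.diag
    (ChartLift16.isAlgStack_etale_of_fppf (isAlgStack_overCat Z)) h𝒳 p f
  obtain ⟨U, -, c, u₀, hc, ⟨iu⟩⟩ :=
    ChartLift16.exists_affine_chart_lift_of_henselian hP A₀ _ (preLift iy α)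
  obtain ⟨b, ⟨j⟩⟩ := exists_overMap_iso (BasedFunctor.comp c (FibCat.fpFst p f))
  haveI : Smooth b.left := (locP_yon_iff' b).1 (of_locQ isSmoothLocalST_smooth gX gY hsm hp j hc)
  have hub : u₀ ≫ b = e ≫ gy := eq_of_overMap_iso
    ((overMapComp u₀ b).symm ≪≫ wlIso (AlgSt.overMap u₀) j.symm ≪≫ wrIso iu (FibCat.fpFst p f) ≪≫
      overMapComp e gy)
  let q := pullback.snd b.left gy.left
  obtain ⟨s, hs₁, hs₂⟩ := SymPt15.exists_section_of_smooth φ hφ q
    (pullback.lift u₀.left (Spec.map (CommRingCat.ofHom φ)) (congrArg CommaMorphism.left hub))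
    (pullback.lift_snd _ _ _)
  let g : Over.mk sA ⟶ U := Over.homMk (s ≫ pullback.fst b.left gy.left) (by
    show (s ≫ pullback.fst b.left gy.left) ≫ U.hom = sA
    rw [← Over.w b, Category.assoc, ← Category.assoc (pullback.fst _ _), pullback.condition, Category.assoc,
      Over.w gy, ← Category.assoc, hs₁]
    exact Category.id_comp sA)
  have hgb : g ≫ b = 𝟙 _ ≫ gy := Over.OverMorphism.ext (by
    show (s ≫ pullback.fst b.left gy.left) ≫ b.left = 𝟙 _ ≫ gy.left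
    rw [Category.assoc, pullback.condition, ← Category.assoc, hs₁]
    rfl)
  have heg : e ≫ g = u₀ := Over.OverMorphism.ext (by
    show Spec.map (CommRingCat.ofHom φ) ≫ s ≫ pullback.fst b.left gy.left = u₀.left
    rw [← Category.assoc, hs₂, pullback.lift_fst])
  let z := BasedFunctor.comp (AlgSt.overMap g) c
  let z' : FibCat.overCat (Over.mk sA) ⥤ᵇ FibCat.fp (AlgSt.overMap gy) (FibCat.fpFst p f) :=
    FibCat.fpLift (AlgSt.overMap (𝟙 _)) z
      (overMapComp (𝟙 _) gy ≪≫ eqToIso (congrArg AlgSt.overMap hgb.symm) ≪≫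
        (overMapComp g b).symm ≪≫ wlIso (AlgSt.overMap g) j.symm)
  refine ⟨BasedFunctor.comp z' (toOrder f iy), ⟨wlIso z' (toOrderSnd f iy)⟩, ?_⟩
  obtain ⟨i'⟩ := iso_of_proj (BasedFunctor.comp (AlgSt.overMap e) z') (preLift' iy α)
    (overMapComp e (𝟙 _) ≪≫ eqToIso (congrArg AlgSt.overMap (Category.comp_id e)))
    (wrIso (overMapComp e g ≪≫ eqToIso (congrArg AlgSt.overMap heg)) c ≪≫ iu)
  exact ⟨wrIso i' (toOrder f iy) ≪≫ preLiftIso iy α⟩

end Groth.Agent.StSmooth16
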